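import Mathlib
import Cfsg.Prelude.Def_OddOrderLocal
import Cfsg.Agent.Lib.Helper11.BlkBasic
import Cfsg.Agent.Lib.Helper11.BlkUtil
import Cfsg.Agent.Lib.Helper22.MaxClass
import Cfsg.Agent.Lib.Helper22.OddCyclicMax
import Cfsg.Agent.Lib.Helper8.MetaAut

/-!
# S4079 design (helper7): shared definitions

`L` is a metacyclic `p`-group (`p` odd) with no cyclic subgroup of index `p`, `a` an automorphism of
order `p`.  `Omega p L` packages `E = Ω₁(L) = {x | x ^ p = 1}` (order `p²`) and
`W = {x | x ^ p ∈ E}` (order `p⁴`), with the facts that `x ↦ x ^ p` is a homomorphism from `W`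
onto `E` and that `E` is central in `W`.  `fixSub a` is the subgroup of fixed points of `a`.
See `plans/S4079_plan.md`.
-/

set_option autoImplicit false

namespace Cfsg.Agent.Helper7.S79

open Subgroup

open scoped commutatorElement

variable {L : Type*} [Group L]

/-- the subgroup of fixed points of an automorphism -/
def fixSub (a : MulAut L) : Subgroup L where
  carrier := {x | a x = x}
  mul_mem' := by
    intro x y hx hy
    simp only [Set.mem_setOf_eq] at hx hy ⊢
    rw [map_mul, hx, hy]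
  one_mem' := map_one a
  inv_mem' := by
    intro x hx
    simp only [Set.mem_setOf_eq] at hx ⊢
    rw [map_inv, hx]

theorem mem_fixSub (a : MulAut L) (x : L) : x ∈ fixSub a ↔ a x = x := Iff.rfl

/-- the semidirect product `L ⋊ ⟨a⟩` exactly as in the frozen statement -/
abbrev GG (a : MulAut L) : Type _ :=
  SemidirectProduct L ↥(Subgroup.zpowers a) (Subgroup.zpowers a).subtype

/-- the structure of `Ω₁(L)` and `Ω₂(L)` used in the proof -/
structure Omega (p : ℕ) (L : Type*) [Group L] where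
  E : Subgroup L
  W : Subgroup L
  memE : ∀ x, x ∈ E ↔ x ^ p = 1
  memW : ∀ x, x ∈ W ↔ x ^ p ∈ E
  cardE : Nat.card E = p ^ 2
  cardW : Nat.card W = p ^ 4
  powMul : ∀ u ∈ W, ∀ v ∈ W, (u * v) ^ p = u ^ p * v ^ p
  surj : ∀ e ∈ E, ∃ w ∈ W, w ^ p = e
  cent : ∀ e ∈ E, ∀ w ∈ W, e * w = w * e

namespace Omega

variable {p : ℕ} (D : Omega p L)

theorem E_le_W : D.E ≤ D.W := by
  intro x hx
  rw [D.memW, (D.memE x).1 hx]
  exact one_mem _

theorem aut_E (α : MulAut L) {x : L} (hx : x ∈ D.E) : α x ∈ D.E := by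
  rw [D.memE] at hx ⊢
  rw [← map_pow, hx, map_one]

theorem aut_W (α : MulAut L) {x : L} (hx : x ∈ D.W) : α x ∈ D.W := by
  rw [D.memW] at hx ⊢
  rw [← map_pow]
  exact D.aut_E α hx

theorem pow_mem_E {w : L} (hw : w ∈ D.W) : w ^ p ∈ D.E := (D.memW w).1 hw

theorem pow_eq_one {e : L} (he : e ∈ D.E) : e ^ p = 1 := (D.memE e).1 he

theorem E_comm {e f : L} (he : e ∈ D.E) (hf : f ∈ D.E) : e * f = f * e :=
  D.cent e he f (D.E_le_W hf)

end Omega

end Cfsg.Agent.Helper7.S79
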