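import Mathlib
import Cfsg.Agent.Lib.S79.S79Defs

/-! S4079 piece S79-CENT (helper7 design; see plans/S4079_plan.md).  Proved by helper28. -/

set_option autoImplicit false

namespace Cfsg.Agent.Helper7.S79

open Subgroup

open scoped commutatorElement

universe u

/-- class-two power rule: `u ^ n * v = ⁅u, v⁆ ^ n * v * u ^ n` if `⁅u, v⁆` commutes with `u`, `v` -/
theorem s79_cent_pow_comm {L : Type*} [Group L] (u v : L) (hu : ⁅u, v⁆ * u = u * ⁅u, v⁆)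
    (hv : ⁅u, v⁆ * v = v * ⁅u, v⁆) (n : ℕ) : u ^ n * v = ⁅u, v⁆ ^ n * v * u ^ n := by
  have huv : u * v = ⁅u, v⁆ * v * u := by
    simp only [commutatorElement_def]; group
  have hcu : Commute ⁅u, v⁆ u := hu
  induction n with
  | zero => simp
  | succ n ih =>
    calc u ^ (n + 1) * v = u * (u ^ n * v) := by rw [pow_succ', mul_assoc]
      _ = u * (⁅u, v⁆ ^ n * v * u ^ n) := by rw [ih]
      _ = (u * ⁅u, v⁆ ^ n) * v * u ^ n := by simp only [mul_assoc]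
      _ = (⁅u, v⁆ ^ n * u) * v * u ^ n := by rw [(hcu.pow_left n).eq]
      _ = ⁅u, v⁆ ^ n * (u * v) * u ^ n := by simp only [mul_assoc]
      _ = ⁅u, v⁆ ^ n * (⁅u, v⁆ * v * u) * u ^ n := by rw [← huv]
      _ = ⁅u, v⁆ ^ (n + 1) * v * u ^ (n + 1) := by
        rw [pow_succ, pow_succ']
        simp only [mul_assoc]

theorem E_central_in_W {L : Type*} [Group L] {p : ℕ} [Fact p.Prime]
    (E W : Subgroup L) (hE : ∀ x, x ∈ E ↔ x ^ p = 1)
    (hcomm : ∀ u ∈ W, ∀ v ∈ W, ⁅u, v⁆ ∈ E)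
    (hcen : ∀ u ∈ W, ∀ v ∈ W, ∀ w ∈ W, ⁅u, v⁆ * w = w * ⁅u, v⁆)
    (hsurj : ∀ e ∈ E, ∃ w ∈ W, w ^ p = e) :
    ∀ e ∈ E, ∀ w ∈ W, e * w = w * e := by
  intro e he w hw
  obtain ⟨w0, hw0, rfl⟩ := hsurj e he
  have h1 := s79_cent_pow_comm w0 w (hcen w0 hw0 w hw w0 hw0) (hcen w0 hw0 w hw w hw) p
  rw [(hE _).1 (hcomm w0 hw0 w hw), one_mul] at h1
  exact h1

end Cfsg.Agent.Helper7.S79
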