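import Mathlib
import Cfsg.Agent.Lib.S79.S79Defs

/-! S4079 piece S79-DERCYC (helper7 design; see plans/S4079_plan.md): the commutator subgroup of a
metacyclic group is cyclic. -/

set_option autoImplicit false

namespace Cfsg.Agent.Helper7.S79

open Subgroup

open scoped commutatorElement

universe u

theorem isCyclic_commutator {R : Type*} [Group R] (h : Cfsg.IsMetacyclic R) :
    IsCyclic ↥(commutator R) := by
  obtain ⟨N, hN, hNc, hQc⟩ := h
  have hcomm : IsMulCommutative (R ⧸ N) := IsCyclic.isMulCommutative
  have hle : commutator R ≤ N := Subgroup.Normal.quotient_commutative_iff_commutator_le.mp hcomm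
  exact isCyclic_of_injective (Subgroup.inclusion hle) (Subgroup.inclusion_injective hle)

end Cfsg.Agent.Helper7.S79
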