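import Mathlib
import Cfsg.Agent.Lib.S79.S79Defs
import Cfsg.Agent.Lib.S79.S79DERCYC
import Cfsg.Agent.Lib.Helper19.PGroupBasic

/-! S4079 piece S79-COMMC (helper7 design; see plans/S4079_plan.md): the commutators of `W` are central in
`W`: `W'` is cyclic of exponent `p`, hence of order at most `p`, hence central in the `p`-group `W`. -/

set_option autoImplicit false

namespace Cfsg.Agent.Helper7.S79

open Subgroup

open scoped commutatorElement

universe u

theorem commutator_central {L : Type*} [Group L] [Finite L] {p : ℕ} [Fact p.Prime]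
    (hL : IsPGroup p L) (hmc : Cfsg.IsMetacyclic L)
    (E W : Subgroup L) (hE : ∀ x, x ∈ E ↔ x ^ p = 1)
    (hcomm : ∀ u ∈ W, ∀ v ∈ W, ⁅u, v⁆ ∈ E) :
    ∀ u ∈ W, ∀ v ∈ W, ∀ w ∈ W, ⁅u, v⁆ * w = w * ⁅u, v⁆ := by
  have hp : p.Prime := Fact.out
  have hWmc : Cfsg.IsMetacyclic ↥W :=
    Cfsg.Agent.Helper8.MetaAut.isMetacyclic_of_injective W.subtype W.subtype_injective hmc
  haveI hcyc : IsCyclic ↥(commutator ↥W) := isCyclic_commutator hWmc
  have hWp : IsPGroup p ↥W := hL.to_subgroup W
  -- every element of the commutator subgroup has `p`-th power one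
  have hle : (commutator ↥W).map W.subtype ≤ E := by
    rw [commutator_def, Subgroup.map_commutator]
    rw [Subgroup.commutator_le]
    intro a ha b hb
    obtain ⟨a', -, rfl⟩ := ha
    obtain ⟨b', -, rfl⟩ := hb
    exact hcomm _ a'.2 _ b'.2
  have hpow : ∀ k : ↥(commutator ↥W), k ^ p = 1 := by
    intro k
    have h1 : ((k : ↥W) : L) ∈ E := hle (Subgroup.mem_map_of_mem W.subtype k.2)
    rw [hE] at h1
    apply Subtype.ext
    apply Subtype.ext
    simpa using h1
  -- its order divides `p`
  have hcard : Nat.card ↥(commutator ↥W) ∣ p := by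
    obtain ⟨g, hg⟩ := hcyc.exists_generator
    have h1 : Nat.card ↥(commutator ↥W) = orderOf g := by
      rw [← Nat.card_zpowers g]
      have : Subgroup.zpowers g = ⊤ := (Subgroup.eq_top_iff' _).mpr hg
      rw [this, Subgroup.card_top]
    rw [h1]
    exact orderOf_dvd_of_pow_eq_one (hpow g)
  -- central
  have hcentral : commutator ↥W ≤ center ↥W := by
    by_cases hbot : commutator ↥W = ⊥
    · rw [hbot]; exact bot_le
    · have h1 : commutator ↥W ⊓ center ↥W ≠ ⊥ :=
        Cfsg.Agent.Helper19.normal_inf_center_ne_bot hWp (commutator ↥W) hbot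
      have hcp : Nat.card ↥(commutator ↥W) = p := by
        rcases (Nat.dvd_prime hp).mp hcard with h | h
        · exfalso
          exact hbot (Subgroup.card_eq_one.mp h)
        · exact h
      have h2 : Nat.card ↥(commutator ↥W ⊓ center ↥W) ∣ p := by
        rw [← hcp]
        exact Subgroup.card_dvd_of_le inf_le_left
      have h3 : Nat.card ↥(commutator ↥W ⊓ center ↥W) = p := by
        rcases (Nat.dvd_prime hp).mp h2 with h | h
        · exfalso
          exact h1 (Subgroup.card_eq_one.mp h)
        · exact h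
      have h4 : commutator ↥W ⊓ center ↥W = commutator ↥W :=
        Subgroup.eq_of_le_of_card_ge inf_le_left (by rw [h3, hcp])
      rw [← h4]
      exact inf_le_right
  intro u hu v hv w hw
  have h1 : ⁅(⟨u, hu⟩ : ↥W), ⟨v, hv⟩⁆ ∈ commutator ↥W :=
    Subgroup.commutator_mem_commutator (Subgroup.mem_top _) (Subgroup.mem_top _)
  have h2 := Subgroup.mem_center_iff.mp (hcentral h1) ⟨w, hw⟩
  have h3 := congrArg (fun x : ↥W => (x : L)) h2
  have h4 : ((⁅(⟨u, hu⟩ : ↥W), ⟨v, hv⟩⁆ : ↥W) : L) = ⁅u, v⁆ := by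
    rw [commutatorElement_def, commutatorElement_def]
    rfl
  simp only [Subgroup.coe_mul] at h3
  rw [h4] at h3
  exact h3.symm

end Cfsg.Agent.Helper7.S79
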