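import Mathlib
import Cfsg.Agent.Lib.S79.S79Defs
import Cfsg.Agent.Lib.Helper22.MaxClass

/-! S4079 piece S79-COMME (helper7 design; see plans/S4079_plan.md): commutators of `W = {x | x ^ p ∈ E}`
(of order `p⁴`) lie in `E = {x | x ^ p = 1}` (of order `p²`), since `W / E` has order `p²`. -/

set_option autoImplicit false

namespace Cfsg.Agent.Helper7.S79

open Subgroup

open scoped commutatorElement

universe u

theorem commutator_mem_E {L : Type*} [Group L] [Finite L] {p : ℕ} [Fact p.Prime]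
    (E W : Subgroup L) (hE : ∀ x, x ∈ E ↔ x ^ p = 1) (hW : ∀ x, x ∈ W ↔ x ^ p ∈ E)
    (hcE : Nat.card E = p ^ 2) (hcW : Nat.card W = p ^ 4) :
    ∀ u ∈ W, ∀ v ∈ W, ⁅u, v⁆ ∈ E := by
  have hp0 : 0 < p := (Fact.out : p.Prime).pos
  haveI hEn : E.Normal := by
    refine ⟨fun x hx g => ?_⟩
    rw [hE] at hx ⊢
    rw [conj_pow, hx, mul_one, mul_inv_cancel]
  have hEW : E ≤ W := by
    intro x hx
    rw [hW, (hE x).mp hx]
    exact E.one_mem
  let Wb : Subgroup (L ⧸ E) := W.map (QuotientGroup.mk' E)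
  have hcomap : Wb.comap (QuotientGroup.mk' E) = W := by
    show (W.map (QuotientGroup.mk' E)).comap (QuotientGroup.mk' E) = W
    rw [QuotientGroup.comap_map_mk']
    exact sup_eq_right.mpr hEW
  have hcard : Nat.card Wb = p ^ 2 := by
    have h1 := Cfsg.Agent.Helper22.card_comap_mk' E Wb
    rw [hcomap, hcW, hcE] at h1
    have h2 : p ^ 4 = p ^ 2 * p ^ 2 := by ring
    rw [h2] at h1
    exact (Nat.eq_of_mul_eq_mul_right (pow_pos hp0 2) h1).symm
  have hcommb : ∀ a b : ↥Wb, a * b = b * a :=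
    IsPGroup.commutative_of_card_eq_prime_sq hcard
  intro u hu v hv
  have hub : (QuotientGroup.mk' E u) ∈ Wb := Subgroup.mem_map_of_mem _ hu
  have hvb : (QuotientGroup.mk' E v) ∈ Wb := Subgroup.mem_map_of_mem _ hv
  have h3 := hcommb ⟨_, hub⟩ ⟨_, hvb⟩
  have h4 : QuotientGroup.mk' E u * QuotientGroup.mk' E v =
      QuotientGroup.mk' E v * QuotientGroup.mk' E u := congrArg Subtype.val h3
  have h5 : QuotientGroup.mk' E ⁅u, v⁆ = 1 := by
    rw [commutatorElement_def, map_mul, map_mul, map_mul, map_inv, map_inv, h4]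
    group
  exact (QuotientGroup.eq_one_iff _).mp h5

end Cfsg.Agent.Helper7.S79
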