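import Mathlib
import Cfsg.Agent.Lib.S79.S79Defs

/-! S4079 piece S79-DELTA (helper7 design; see plans/S4079_plan.md): `e⁻¹ a(e) ∈ C_E(a)` for `e ∈ E`. -/

set_option autoImplicit false

namespace Cfsg.Agent.Helper7.S79

open Subgroup

open scoped commutatorElement

universe u

/-- powers of `a` commute with `a` -/
theorem s79_delta_comm {L : Type*} [Group L] (a : MulAut L) (b : ↥(Subgroup.zpowers a)) (x : L) :
    (b : MulAut L) (a x) = a ((b : MulAut L) x) := by
  obtain ⟨k, hk⟩ := Subgroup.mem_zpowers_iff.mp b.2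
  have h : (b : MulAut L) * a = a * (b : MulAut L) := by
    rw [← hk]
    exact ((Commute.refl a).zpow_left k).eq
  have := congrArg (fun f : MulAut L => f x) h
  simpa [MulAut.mul_apply] using this

theorem delta_mem {L : Type*} [Group L] [Finite L] {p : ℕ} [Fact p.Prime] (D : Omega p L)
    (a : MulAut L) (ha : a ^ p = 1) (hZ : Nat.card ↥(D.E ⊓ fixSub a) = p) :
    ∀ e ∈ D.E, e⁻¹ * a e ∈ D.E ⊓ fixSub a := by
  have hp : p.Prime := Fact.out
  -- the homomorphism `δ`
  let δ : ↥D.E →* ↥D.E :=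
    { toFun := fun e => ⟨(e : L)⁻¹ * a e, mul_mem (inv_mem e.2) (D.aut_E a e.2)⟩
      map_one' := by
        apply Subtype.ext
        show ((1 : ↥D.E) : L)⁻¹ * a ((1 : ↥D.E) : L) = 1
        rw [Subgroup.coe_one, map_one, inv_one, one_mul]
      map_mul' := by
        intro e f
        apply Subtype.ext
        show ((e * f : ↥D.E) : L)⁻¹ * a ((e * f : ↥D.E) : L) =
          ((e : L)⁻¹ * a e) * ((f : L)⁻¹ * a f)
        rw [Subgroup.coe_mul, map_mul, mul_inv_rev]
        have h1 : a (e : L) * ((f : L)⁻¹) = (f : L)⁻¹ * a (e : L) :=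
          D.E_comm (D.aut_E a e.2) (inv_mem f.2)
        have h2 : (f : L)⁻¹ * (e : L)⁻¹ = (e : L)⁻¹ * (f : L)⁻¹ :=
          D.E_comm (inv_mem f.2) (inv_mem e.2)
        calc (f : L)⁻¹ * (e : L)⁻¹ * (a e * a f) = (e : L)⁻¹ * (f : L)⁻¹ * (a e * a f) := by rw [h2]
          _ = (e : L)⁻¹ * ((f : L)⁻¹ * a e) * a f := by simp only [mul_assoc]
          _ = (e : L)⁻¹ * (a e * (f : L)⁻¹) * a f := by rw [h1]
          _ = (e : L)⁻¹ * a e * ((f : L)⁻¹ * a f) := by simp only [mul_assoc] }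
  have hδ : ∀ e : ↥D.E, ((δ e : ↥D.E) : L) = (e : L)⁻¹ * a e := fun _ => rfl
  -- kernel
  have hker : δ.ker = (D.E ⊓ fixSub a).subgroupOf D.E := by
    ext e
    rw [MonoidHom.mem_ker, Subgroup.mem_subgroupOf, Subgroup.mem_inf, mem_fixSub]
    constructor
    · intro h
      have h1 := congrArg Subtype.val h
      rw [hδ, Subgroup.coe_one, inv_mul_eq_one] at h1
      exact ⟨e.2, h1.symm⟩
    · rintro ⟨_, h⟩
      apply Subtype.ext
      rw [hδ, h, inv_mul_cancel, Subgroup.coe_one]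
  have hcardker : Nat.card ↥δ.ker = p := by
    rw [hker, Nat.card_congr (Subgroup.subgroupOfEquivOfLe inf_le_left).toEquiv, hZ]
  have hcardrange : Nat.card ↥δ.range = p := by
    have h1 := δ.ker.card_mul_index
    rw [Subgroup.index_ker, hcardker, D.cardE] at h1
    have hpos : 0 < p := hp.pos
    have h2 : p * Nat.card ↥δ.range = p * p := by rw [h1, pow_two]
    exact Nat.eq_of_mul_eq_mul_left hpos h2
  -- the action of `⟨a⟩` on the range
  have hAp : IsPGroup p ↥(Subgroup.zpowers a) := by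
    intro b
    refine ⟨1, ?_⟩
    obtain ⟨k, hk⟩ := Subgroup.mem_zpowers_iff.mp b.2
    apply Subtype.ext
    rw [pow_one, Subgroup.coe_pow, Subgroup.coe_one, ← hk, ← zpow_natCast, ← zpow_mul, mul_comm,
      zpow_mul, zpow_natCast, ha, one_zpow]
  have hinv : ∀ (b : ↥(Subgroup.zpowers a)) (x : ↥δ.range),
      (⟨(b : MulAut L) ((x : ↥D.E) : L), D.aut_E _ (x : ↥D.E).2⟩ : ↥D.E) ∈ δ.range := by
    intro b x
    obtain ⟨e, he⟩ := x.2
    refine ⟨⟨(b : MulAut L) (e : L), D.aut_E _ e.2⟩, ?_⟩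
    apply Subtype.ext
    rw [hδ]
    show ((b : MulAut L) (e : L))⁻¹ * a ((b : MulAut L) (e : L)) = (b : MulAut L) ((x : ↥D.E) : L)
    rw [← he, hδ, map_mul, map_inv, s79_delta_comm]
  let act : MulAction ↥(Subgroup.zpowers a) ↥δ.range :=
    { smul := fun b x => ⟨⟨(b : MulAut L) ((x : ↥D.E) : L), D.aut_E _ (x : ↥D.E).2⟩, hinv b x⟩
      one_smul := fun x => by
        apply Subtype.ext
        apply Subtype.ext
        show ((1 : ↥(Subgroup.zpowers a)) : MulAut L) ((x : ↥D.E) : L) = ((x : ↥D.E) : L)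
        rw [Subgroup.coe_one, MulAut.one_apply]
      mul_smul := fun b c x => by
        apply Subtype.ext
        apply Subtype.ext
        show ((b * c : ↥(Subgroup.zpowers a)) : MulAut L) ((x : ↥D.E) : L) =
          (b : MulAut L) ((c : MulAut L) ((x : ↥D.E) : L))
        rw [Subgroup.coe_mul, MulAut.mul_apply] }
  have hsm : ∀ (b : ↥(Subgroup.zpowers a)) (x : ↥δ.range),
      (((b • x : ↥δ.range) : ↥D.E) : L) = (b : MulAut L) ((x : ↥D.E) : L) := fun _ _ => rfl
  have hmod := hAp.card_modEq_card_fixedPoints ↥δ.range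
  rw [hcardrange] at hmod
  -- `p` divides the number of fixed points, and `1` is fixed
  have hone : (1 : ↥δ.range) ∈ MulAction.fixedPoints ↥(Subgroup.zpowers a) ↥δ.range := by
    intro b
    apply Subtype.ext
    apply Subtype.ext
    rw [hsm]
    show (b : MulAut L) (((1 : ↥δ.range) : ↥D.E) : L) = (((1 : ↥δ.range) : ↥D.E) : L)
    rw [Subgroup.coe_one, Subgroup.coe_one, map_one]
  have hdvd : p ∣ Nat.card ↥(MulAction.fixedPoints ↥(Subgroup.zpowers a) ↥δ.range) := by
    have h1 : Nat.card ↥(MulAction.fixedPoints ↥(Subgroup.zpowers a) ↥δ.range) % p = p % p :=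
      hmod.symm
    rw [Nat.mod_self] at h1
    exact Nat.dvd_of_mod_eq_zero h1
  have hpos : 0 < Nat.card ↥(MulAction.fixedPoints ↥(Subgroup.zpowers a) ↥δ.range) := by
    have : Nonempty ↥(MulAction.fixedPoints ↥(Subgroup.zpowers a) ↥δ.range) := ⟨⟨1, hone⟩⟩
    exact Nat.card_pos
  have hge : p ≤ Nat.card ↥(MulAction.fixedPoints ↥(Subgroup.zpowers a) ↥δ.range) :=
    Nat.le_of_dvd hpos hdvd
  have hall : MulAction.fixedPoints ↥(Subgroup.zpowers a) ↥δ.range = Set.univ := by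
    apply Set.eq_of_subset_of_ncard_le (Set.subset_univ _) _ Set.finite_univ
    rw [Set.ncard_univ, hcardrange, ← _root_.Nat.card_coe_set_eq]
    exact hge
  intro e he
  have hx : (⟨δ ⟨e, he⟩, ⟨⟨e, he⟩, rfl⟩⟩ : ↥δ.range) ∈
      MulAction.fixedPoints ↥(Subgroup.zpowers a) ↥δ.range := by
    rw [hall]; exact Set.mem_univ _
  have hfix := hx ⟨a, Subgroup.mem_zpowers a⟩
  have h1 := congrArg (fun y : ↥δ.range => ((y : ↥D.E) : L)) hfix
  simp only at h1
  rw [hsm] at h1
  rw [Subgroup.mem_inf, mem_fixSub]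
  refine ⟨mul_mem (inv_mem he) (D.aut_E a he), ?_⟩
  exact h1

end Cfsg.Agent.Helper7.S79
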