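import Mathlib
import Cfsg.Agent.Lib.S79.S79Defs
import Cfsg.Agent.Lib.Helper22.ClassTwo
import Cfsg.Agent.Lib.Helper19.PGroupBasic

/-! S4079 piece S79-ECENT (helper7 design; see plans/S4079_plan.md): if `|L'| ≤ p` then
`E = Ω₁(L)` is central in `L`.  (helper9) -/

set_option autoImplicit false

namespace Cfsg.Agent.Helper7.S79

open Subgroup

open scoped commutatorElement

universe u

theorem E_le_center_of_card_commutator_le {L : Type*} [Group L] [Finite L] {p : ℕ} [Fact p.Prime]
    (hp : p ≠ 2) (hL : IsPGroup p L) (D : Omega p L) (h : Nat.card ↥(commutator L) ≤ p) :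
    ∀ e ∈ D.E, e ∈ center L := by
  have _ := hp
  have hpp : p.Prime := Fact.out
  -- the order of `L'` is `1` or `p`
  have hcard : Nat.card ↥(commutator L) = 1 ∨ Nat.card ↥(commutator L) = p := by
    rcases (hL.to_subgroup (commutator L)).card_eq_or_dvd with h1 | h1
    · exact Or.inl h1
    · exact Or.inr (Nat.le_antisymm h (Nat.le_of_dvd Nat.card_pos h1))
  have hdvd : Nat.card ↥(commutator L) ∣ p := by
    rcases hcard with h1 | h1
    · rw [h1]; exact one_dvd p
    · rw [h1]
  -- `L'` is central
  have hcen : commutator L ≤ center L := by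
    by_cases hbot : commutator L = ⊥
    · rw [hbot]; exact bot_le
    · have hne := Cfsg.Agent.Helper19.normal_inf_center_ne_bot hL (commutator L) hbot
      have hcp : Nat.card ↥(commutator L) = p := by
        rcases hcard with h1 | h1
        · exact absurd (Subgroup.card_eq_one.1 h1) hbot
        · exact h1
      have heq : commutator L ⊓ center L = commutator L := by
        apply Subgroup.eq_of_le_of_card_ge inf_le_left
        have hd : Nat.card ↥(commutator L ⊓ center L) ∣ Nat.card ↥(commutator L) :=
          Subgroup.card_dvd_of_le inf_le_left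
        rw [hcp] at hd ⊢
        rcases (Nat.dvd_prime hpp).1 hd with h1 | h1
        · exact absurd (Subgroup.card_eq_one.1 h1) hne
        · rw [h1]
      rw [← heq]
      exact inf_le_right
  -- `L'` has exponent dividing `p`
  have hexp : ∀ c ∈ commutator L, c ^ p = 1 := by
    intro c hc
    have h1 : (⟨c, hc⟩ : ↥(commutator L)) ^ Nat.card ↥(commutator L) = 1 := pow_card_eq_one'
    have h2 : c ^ Nat.card ↥(commutator L) = 1 := by
      have h3 := congrArg Subtype.val h1
      rw [Subgroup.coe_pow, Subgroup.coe_one] at h3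
      exact h3
    obtain ⟨m, hm⟩ := hdvd
    rw [hm, pow_mul, h2, one_pow]
  intro e he
  obtain ⟨w, hwW, rfl⟩ := D.surj e he
  rw [Subgroup.mem_center_iff]
  intro l
  have hwl : ⁅w, l⁆ ∈ commutator L := by
    rw [_root_.commutator_def]
    exact Subgroup.commutator_mem_commutator (Subgroup.mem_top _) (Subgroup.mem_top _)
  have h1 : ⁅w ^ p, l⁆ = ⁅w, l⁆ ^ p :=
    Cfsg.Agent.Helper22.commutator_pow_left_of_central l w (hcen hwl) p
  rw [hexp _ hwl, commutatorElement_eq_one_iff_commute] at h1
  exact h1.eq.symm

end Cfsg.Agent.Helper7.S79
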