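import Mathlib
import Cfsg.Agent.Lib.S79.S79Defs

/-! S4079 piece S79-FIXCARD (helper7 design; see plans/S4079_plan.md): the fixed points of `a` on
`E = Ω₁(L)` form a subgroup of order `p`. -/

set_option autoImplicit false
set_option warn.classDefReducibility false
set_option linter.style.haveILetI false

namespace Cfsg.Agent.Helper7.S79

open Subgroup

open scoped commutatorElement

universe u

/-- the action of `⟨a⟩` on `E` -/
def s79_fixcard_act {L : Type*} [Group L] {p : ℕ} (D : Omega p L) (a : MulAut L) :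
    MulAction ↥(Subgroup.zpowers a) ↥D.E where
  smul b e := ⟨(b : MulAut L) (e : L), D.aut_E _ e.2⟩
  one_smul _ := Subtype.ext rfl
  mul_smul _ _ _ := Subtype.ext rfl

theorem s79_fixcard_smul_coe {L : Type*} [Group L] {p : ℕ} (D : Omega p L) (a : MulAut L)
    (b : ↥(Subgroup.zpowers a)) (e : ↥D.E) :
    (((s79_fixcard_act D a).toSMul.smul b e : ↥D.E) : L) = (b : MulAut L) (e : L) := rfl

/-- a fixed point of `a` is fixed by all powers of `a` -/
theorem s79_fixcard_zpowers_fix {L : Type*} [Group L] (a : MulAut L) {e : L} (he : a e = e)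
    (b : MulAut L) (hb : b ∈ Subgroup.zpowers a) : b e = e := by
  have hle : Subgroup.zpowers a ≤ MulAction.stabilizer (MulAut L) e := by
    rw [Subgroup.zpowers_le, MulAction.mem_stabilizer_iff, MulAut.smul_def]
    exact he
  have := hle hb
  rwa [MulAction.mem_stabilizer_iff, MulAut.smul_def] at this

theorem card_fix_E {L : Type*} [Group L] [Finite L] {p : ℕ} [Fact p.Prime] (D : Omega p L)
    (a : MulAut L) (ha : a ^ p = 1) (hmove : ∃ e ∈ D.E, a e ≠ e) :
    Nat.card ↥(D.E ⊓ fixSub a) = p := by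
  classical
  have hp : p.Prime := Fact.out
  letI act : MulAction ↥(Subgroup.zpowers a) ↥D.E := s79_fixcard_act D a
  have hPG : IsPGroup p ↥(Subgroup.zpowers a) := by
    intro b
    refine ⟨1, ?_⟩
    obtain ⟨n, hn⟩ := Subgroup.mem_zpowers_iff.mp b.2
    apply Subtype.ext
    rw [pow_one, Subgroup.coe_pow, Subgroup.coe_one, ← hn, ← zpow_natCast, ← zpow_mul, mul_comm,
      zpow_mul, zpow_natCast, ha, one_zpow]
  have hmod := hPG.card_modEq_card_fixedPoints (↥D.E)
  -- the fixed points are `E ⊓ fixSub a`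
  have hequiv : Nat.card ↥(MulAction.fixedPoints ↥(Subgroup.zpowers a) ↥D.E) =
      Nat.card ↥(D.E ⊓ fixSub a) := by
    refine Nat.card_congr ⟨fun x => ⟨((x : ↥D.E) : L), ?_⟩, fun y => ⟨⟨(y : L), y.2.1⟩, ?_⟩, ?_, ?_⟩
    · refine Subgroup.mem_inf.mpr ⟨(x : ↥D.E).2, ?_⟩
      have h1 := x.2 ⟨a, Subgroup.mem_zpowers a⟩
      have h2 := congrArg Subtype.val h1
      exact (mem_fixSub a _).mpr h2
    · intro b
      apply Subtype.ext
      exact s79_fixcard_zpowers_fix a ((mem_fixSub a _).mp y.2.2) (b : MulAut L) b.2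
    · intro x
      rfl
    · intro y
      rfl
  rw [hequiv, D.cardE] at hmod
  have hdvd1 : p ∣ Nat.card ↥(D.E ⊓ fixSub a) := by
    have h0 : p ^ 2 % p = 0 := by
      rw [pow_two]; exact Nat.mul_mod_left p p
    have h1 : Nat.card ↥(D.E ⊓ fixSub a) % p = 0 := by
      rw [← hmod, h0]
    exact Nat.dvd_of_mod_eq_zero h1
  have hdvd2 : Nat.card ↥(D.E ⊓ fixSub a) ∣ p ^ 2 := by
    rw [← D.cardE]
    exact Subgroup.card_dvd_of_le inf_le_left
  obtain ⟨i, hi, hcard⟩ := (Nat.dvd_prime_pow hp).mp hdvd2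
  have hi1 : i ≠ 0 := by
    rintro rfl
    rw [pow_zero] at hcard
    rw [hcard] at hdvd1
    exact hp.one_lt.ne' (Nat.dvd_one.mp hdvd1)
  have hi2 : i ≠ 2 := by
    rintro rfl
    have heq : D.E ⊓ fixSub a = D.E := by
      apply Subgroup.eq_of_le_of_card_ge inf_le_left
      rw [hcard, D.cardE]
    obtain ⟨e, he, hne⟩ := hmove
    apply hne
    have : e ∈ D.E ⊓ fixSub a := by rw [heq]; exact he
    exact (mem_fixSub a e).mp this.2
  have hi3 : i = 1 := by omega
  rw [hcard, hi3, pow_one]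

end Cfsg.Agent.Helper7.S79
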