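import Mathlib
import Cfsg.Agent.Lib.S79.S79Defs

/-! S4079 piece S79-ITER (helper7 design; see plans/S4079_plan.md): the iteration formula
`a^k(w) = w t^k s^C(k,2) z^C(k,3)`.  (helper9) -/

set_option autoImplicit false

namespace Cfsg.Agent.Helper7.S79

open Subgroup

open scoped commutatorElement

universe u

theorem iterate_formula {L : Type*} [Group L] (a : MulAut L) (w t s z : L)
    (hts : t * s = s * t) (htz : t * z = z * t) (hsz : s * z = z * s)
    (hw : a w = w * t) (ht : a t = t * s) (hs : a s = s * z) (hz : a z = z) (k : ℕ) :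
    (a ^ k) w = w * t ^ k * s ^ (k.choose 2) * z ^ (k.choose 3) := by
  have _ := htz
  induction k with
  | zero => simp
  | succ k ih =>
    have cts : Commute t s := hts
    have csz : Commute s z := hsz
    have e2 : (k + 1).choose 2 = k + k.choose 2 := by
      rw [Nat.choose_succ_succ' k 1, Nat.choose_one_right]
    have e3 : (k + 1).choose 3 = k.choose 2 + k.choose 3 := Nat.choose_succ_succ' k 2
    rw [pow_succ', MulAut.mul_apply, ih, map_mul, map_mul, map_mul, map_pow, map_pow, map_pow,
      hw, ht, hs, hz, cts.mul_pow, csz.mul_pow, e2, e3, pow_succ' t k, pow_add, pow_add]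
    simp only [mul_assoc]

end Cfsg.Agent.Helper7.S79
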