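import Mathlib
import Cfsg.Agent.Lib.S79.S79Defs
import Cfsg.Agent.Lib.S79.S79ITER

/-! S4079 piece S79-KEY (helper7 design; see plans/S4079_plan.md).  Proof by helper7. -/

set_option autoImplicit false

namespace Cfsg.Agent.Helper7.S79

open Subgroup

open scoped commutatorElement

universe u

/-- on `W`: `(x⁻¹ a(x))^p = (x^p)⁻¹ a(x^p)` -/
theorem s79_key_delta_pow {L : Type*} [Group L] {p : ℕ} (D : Omega p L) (a : MulAut L) (x : L)
    (hx : x ∈ D.W) : (x⁻¹ * a x) ^ p = (x ^ p)⁻¹ * a (x ^ p) := by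
  rw [D.powMul _ (inv_mem hx) _ (D.aut_W a hx), inv_pow, map_pow]

theorem key_identity {L : Type*} [Group L] {p : ℕ} [Fact p.Prime] (hp : p ≠ 2) (D : Omega p L)
    (a : MulAut L) (ha : a ^ p = 1)
    (hdelta : ∀ e ∈ D.E, e⁻¹ * a e ∈ D.E ⊓ fixSub a) (w : L) (hw : w ∈ D.W) :
    ∃ t s z : L, t = w⁻¹ * a w ∧ s = t⁻¹ * a t ∧ z = s⁻¹ * a s ∧ t ∈ D.W ∧ s ∈ D.E ∧ z ∈ D.E ∧
      a z = z ∧ t ^ p = (w ^ p)⁻¹ * a (w ^ p) ∧ t ^ p * z ^ (p.choose 3) = 1 := by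
  have hpp : p.Prime := Fact.out
  have htW : w⁻¹ * a w ∈ D.W := mul_mem (inv_mem hw) (D.aut_W a hw)
  have htp : (w⁻¹ * a w) ^ p = (w ^ p)⁻¹ * a (w ^ p) := s79_key_delta_pow D a w hw
  have htpZ : (w⁻¹ * a w) ^ p ∈ D.E ⊓ fixSub a := by
    rw [htp]; exact hdelta _ (D.pow_mem_E hw)
  set t := w⁻¹ * a w with ht
  have hsW : t⁻¹ * a t ∈ D.W := mul_mem (inv_mem htW) (D.aut_W a htW)
  have hsp : (t⁻¹ * a t) ^ p = 1 := by
    rw [s79_key_delta_pow D a t htW, (mem_fixSub a _).1 htpZ.2, inv_mul_cancel]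
  have hsE : t⁻¹ * a t ∈ D.E := (D.memE _).2 hsp
  set s := t⁻¹ * a t with hs
  have hzZ : s⁻¹ * a s ∈ D.E ⊓ fixSub a := hdelta s hsE
  set z := s⁻¹ * a s with hz
  have hzE : z ∈ D.E := hzZ.1
  have haz : a z = z := (mem_fixSub a z).1 hzZ.2
  refine ⟨t, s, z, rfl, rfl, rfl, htW, hsE, hzE, haz, htp, ?_⟩
  have hts : t * s = s * t := (D.cent s hsE t htW).symm
  have htz : t * z = z * t := (D.cent z hzE t htW).symm
  have hsz : s * z = z * s := D.E_comm hsE hzE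
  have hw' : a w = w * t := by rw [ht]; group
  have ht' : a t = t * s := by rw [hs]; group
  have hs' : a s = s * z := by rw [hz]; group
  have hiter := iterate_formula a w t s z hts htz hsz hw' ht' hs' haz p
  rw [ha, MulAut.one_apply] at hiter
  have hdvd : p ∣ p.choose 2 := by
    apply hpp.dvd_choose_self (by norm_num)
    have := hpp.two_le
    omega
  obtain ⟨k, hk⟩ := hdvd
  have hs1 : s ^ (p.choose 2) = 1 := by rw [hk, pow_mul, hsp, one_pow]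
  rw [hs1, mul_one, mul_assoc] at hiter
  exact (mul_eq_left.mp hiter.symm)

end Cfsg.Agent.Helper7.S79
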