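import Mathlib
import Cfsg.Agent.Lib.S79.S79Defs
import Cfsg.Agent.Lib.S79.S79KEY
import Cfsg.Agent.Lib.S79.S79FIXCARD
import Cfsg.Agent.Lib.S79.S79DELTA

/-! S4079 piece S79-FIXLE (helper7 design; see plans/S4079_plan.md).  Proof by helper7. -/

set_option autoImplicit false

namespace Cfsg.Agent.Helper7.S79

open Subgroup

open scoped commutatorElement

universe u

theorem card_fixSub_le {L : Type*} [Group L] [Finite L] {p : ℕ} [Fact p.Prime] (hp : p ≠ 2)
    (hL : IsPGroup p L) (D : Omega p L) (a : MulAut L) (ha : a ^ p = 1)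
    (hmove : ∃ e ∈ D.E, a e ≠ e) : Nat.card ↥(fixSub a) ≤ p := by
  have hpp : p.Prime := Fact.out
  by_contra hlt
  push Not at hlt
  have hZ := card_fix_E D a ha hmove
  have hdelta := delta_mem D a ha hZ
  -- a subgroup of order `p²` inside the fixed points
  have hdvd : p ^ 2 ∣ Nat.card ↥(fixSub a) := by
    obtain ⟨k, hk⟩ := IsPGroup.iff_card.mp (hL.to_subgroup (fixSub a))
    rw [hk] at hlt ⊢
    apply pow_dvd_pow
    by_contra hk2
    have hk1 : k ≤ 1 := by omega
    have : p ^ k ≤ p ^ 1 := Nat.pow_le_pow_right hpp.pos hk1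
    rw [pow_one] at this
    omega
  obtain ⟨C', hC'⟩ := Sylow.exists_subgroup_card_pow_prime p hdvd
  set C₂ : Subgroup L := C'.map (fixSub a).subtype with hC₂
  have hC₂le : C₂ ≤ fixSub a := Subgroup.map_subtype_le C'
  have hC₂card : Nat.card ↥C₂ = p ^ 2 := by
    rw [hC₂, Subgroup.card_map_of_injective (fixSub a).subtype_injective, hC']
  -- an element `c` of `C₂` outside `E`
  have hex : ∃ c ∈ C₂, c ∉ D.E := by
    by_contra hno
    push Not at hno
    have hle : C₂ ≤ D.E ⊓ fixSub a := le_inf hno hC₂le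
    have h1 := Subgroup.card_le_of_le hle
    rw [hC₂card, hZ] at h1
    have h4 : p < p ^ 2 := by
      rw [pow_two]
      exact lt_mul_of_one_lt_left hpp.pos hpp.one_lt
    omega
  obtain ⟨c, hcC, hcE⟩ := hex
  have hac : a c = c := (mem_fixSub a c).1 (hC₂le hcC)
  have hcpp : c ^ (p ^ 2) = 1 := by
    have h1 : (⟨c, hcC⟩ : ↥C₂) ^ Nat.card ↥C₂ = 1 := pow_card_eq_one'
    rw [hC₂card] at h1
    have h2 := congrArg Subtype.val h1
    simpa using h2
  have hcpE : c ^ p ∈ D.E := by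
    rw [D.memE, ← pow_mul, ← pow_two]; exact hcpp
  have hcW : c ∈ D.W := (D.memW c).2 hcpE
  have hcp1 : c ^ p ≠ 1 := fun h => hcE ((D.memE c).2 h)
  have hcpZ : c ^ p ∈ D.E ⊓ fixSub a := by
    refine ⟨hcpE, ?_⟩
    show a (c ^ p) = c ^ p
    rw [map_pow, hac]
  -- `Z = ⟨c^p⟩`
  have hord : orderOf (c ^ p) = p := orderOf_eq_prime (D.pow_eq_one hcpE) hcp1
  have hZeq : zpowers (c ^ p) = D.E ⊓ fixSub a := by
    apply Subgroup.eq_of_le_of_card_ge
    · rw [zpowers_le]; exact hcpZ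
    · rw [hZ, Nat.card_zpowers, hord]
  -- the key identity for a moved element
  obtain ⟨e, he, hae⟩ := hmove
  obtain ⟨w, hw, hwe⟩ := D.surj e he
  obtain ⟨t, s, z, -, hs, hz, htW, -, -, -, htp, hkey⟩ := key_identity hp D a ha hdelta w hw
  have htpZ : t ^ p ∈ D.E ⊓ fixSub a := by
    rw [htp, hwe]; exact hdelta e he
  have htp1 : t ^ p ≠ 1 := by
    intro h
    rw [htp, hwe] at h
    apply hae
    have : a e = e * (e⁻¹ * a e) := by group
    rw [this, h, mul_one]
  rw [← hZeq] at htpZ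
  obtain ⟨i, hi⟩ := mem_zpowers_iff.mp htpZ
  -- `t = c^i u` with `u ∈ E`
  have hciW : c ^ i ∈ D.W := zpow_mem hcW i
  have haci : a (c ^ i) = c ^ i := by rw [map_zpow, hac]
  have hcip : (c ^ i) ^ p = t ^ p := by
    rw [← hi, ← zpow_natCast, ← zpow_mul, mul_comm, zpow_mul, zpow_natCast]
  set u := (c ^ i)⁻¹ * t with hu
  have huW : u ∈ D.W := mul_mem (inv_mem hciW) htW
  have hup : u ^ p = 1 := by
    rw [hu, D.powMul _ (inv_mem hciW) _ htW, inv_pow, hcip, inv_mul_cancel]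
  have huE : u ∈ D.E := (D.memE u).2 hup
  have htu : t = c ^ i * u := by rw [hu]; group
  have hsu : s = u⁻¹ * a u := by
    rw [hs, htu, map_mul, haci]; group
  have hsZ : s ∈ D.E ⊓ fixSub a := by rw [hsu]; exact hdelta u huE
  have has : a s = s := (mem_fixSub a s).1 hsZ.2
  have hz1 : z = 1 := by rw [hz, has, inv_mul_cancel]
  rw [hz1, one_pow, mul_one] at hkey
  exact htp1 hkey

end Cfsg.Agent.Helper7.S79
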