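import Mathlib
import Cfsg.Agent.Lib.S79.S79Defs

/-! S4079 piece S79-GCARD (helper7 design; see plans/S4079_plan.md), implemented by helper11.
The semidirect product `L ⋊ ⟨a⟩` has order `p ^ (m + 1)`. -/

set_option autoImplicit false

namespace Cfsg.Agent.Helper7.S79

open Subgroup

open scoped commutatorElement

universe u

theorem card_GG {L : Type*} [Group L] [Finite L] {p : ℕ} (a : MulAut L) (ha : orderOf a = p)
    (m : ℕ) (hm : Nat.card L = p ^ m) : Nat.card (GG a) = p ^ (m + 1) := by
  rw [Nat.card_congr (SemidirectProduct.equivProd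
    (N := L) (G := ↥(Subgroup.zpowers a)) (φ := (Subgroup.zpowers a).subtype)), Nat.card_prod, hm,
    Nat.card_zpowers, ha, pow_succ]

end Cfsg.Agent.Helper7.S79
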