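import Mathlib
import Cfsg.Agent.Lib.S79.S79Defs

/-! S4079 piece S79-GCENT (helper7 design; see plans/S4079_plan.md), implemented by helper11.
The centralizer of `inr a` in `L ⋊ ⟨a⟩` injects into `fixSub a × ⟨a⟩`. -/

set_option autoImplicit false

namespace Cfsg.Agent.Helper7.S79

open Subgroup

open scoped commutatorElement

universe u

theorem s79_gcent_fix {L : Type*} [Group L] (a : MulAut L) (g : GG a)
    (hg : g ∈ centralizer {(SemidirectProduct.inr ⟨a, Subgroup.mem_zpowers a⟩ : GG a)}) :
    a g.left = g.left := by
  rw [Subgroup.mem_centralizer_singleton_iff] at hg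
  have h1 := congrArg SemidirectProduct.left hg
  simp only [SemidirectProduct.mul_left, SemidirectProduct.left_inr, SemidirectProduct.right_inr,
    map_one, mul_one, one_mul] at h1
  first
  | exact h1
  | exact h1.symm

theorem card_centralizer_inr_le {L : Type*} [Group L] [Finite L] (a : MulAut L) :
    Nat.card ↥(centralizer {(SemidirectProduct.inr ⟨a, Subgroup.mem_zpowers a⟩ : GG a)}) ≤
      Nat.card ↥(fixSub a) * orderOf a := by
  let f : ↥(centralizer {(SemidirectProduct.inr ⟨a, Subgroup.mem_zpowers a⟩ : GG a)}) →
      ↥(fixSub a) × ↥(Subgroup.zpowers a) :=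
    fun g => (⟨g.1.left, s79_gcent_fix a g.1 g.2⟩, g.1.right)
  have hf : Function.Injective f := by
    intro g h hgh
    have h1 := congrArg (fun x => (x.1 : L)) hgh
    have h2 := congrArg Prod.snd hgh
    apply Subtype.ext
    exact SemidirectProduct.ext h1 h2
  have h3 := Nat.card_le_card_of_injective f hf
  rw [Nat.card_prod, Nat.card_zpowers] at h3
  exact h3

end Cfsg.Agent.Helper7.S79
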