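import Mathlib
import Cfsg.Agent.Lib.S79.S79Defs

/-! S4079 piece S79-GCENTRAL (helper7 design; see plans/S4079_plan.md), implemented by helper11.
A subgroup of `Z(L)` fixed elementwise by `a` is central in `L ⋊ ⟨a⟩`. -/

set_option autoImplicit false

namespace Cfsg.Agent.Helper7.S79

open Subgroup

open scoped commutatorElement

universe u

theorem s79_gcentral_fix {L : Type*} [Group L] (a : MulAut L) (e : L) (he : a e = e)
    (b : MulAut L) (hb : b ∈ Subgroup.zpowers a) : b e = e := by
  have h1 : Subgroup.zpowers a ≤ MulAction.stabilizer (MulAut L) e := by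
    rw [Subgroup.zpowers_le, MulAction.mem_stabilizer_iff, MulAut.smul_def]
    exact he
  have h2 := h1 hb
  rw [MulAction.mem_stabilizer_iff, MulAut.smul_def] at h2
  exact h2

theorem map_inl_le_center {L : Type*} [Group L] (a : MulAut L) (K : Subgroup L)
    (hK : ∀ e ∈ K, e ∈ center L ∧ a e = e) :
    K.map (SemidirectProduct.inl : L →* GG a) ≤ center (GG a) := by
  rintro _ ⟨e, he, rfl⟩
  obtain ⟨hc, hfix⟩ := hK e he
  rw [Subgroup.mem_center_iff]
  intro g
  have hb : (g.right : MulAut L) e = e := s79_gcentral_fix a e hfix _ g.right.2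
  apply SemidirectProduct.ext
  · simp only [SemidirectProduct.mul_left, SemidirectProduct.left_inl, SemidirectProduct.right_inl,
      map_one, MulAut.one_apply]
    have h1 : ((Subgroup.zpowers a).subtype g.right) e = e := hb
    rw [h1]
    exact Subgroup.mem_center_iff.mp hc g.left
  · simp only [SemidirectProduct.mul_right, SemidirectProduct.right_inl, mul_one, one_mul]

end Cfsg.Agent.Helper7.S79
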