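import Mathlib
import Cfsg.Agent.Lib.S79.S79Defs

/-! S4079 piece S79-GNORMAL (helper7 design; see plans/S4079_plan.md).  Proof by helper7. -/

set_option autoImplicit false

namespace Cfsg.Agent.Helper7.S79

open Subgroup

open scoped commutatorElement

universe u

theorem map_inl_normal {L : Type*} [Group L] (a : MulAut L) (K : Subgroup L)
    (hK : ∀ α : MulAut L, ∀ x ∈ K, α x ∈ K) :
    (K.map (SemidirectProduct.inl : L →* GG a)).Normal := by
  constructor
  intro n hn g
  obtain ⟨x, hx, rfl⟩ := hn
  -- `g = inl l * inr b`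
  have hg := SemidirectProduct.inl_left_mul_inr_right g
  set l := g.left with hl
  set b := g.right with hb
  have h1 : g * SemidirectProduct.inl x * g⁻¹ =
      (SemidirectProduct.inl (l * ((Subgroup.zpowers a).subtype b) x * l⁻¹) : GG a) := by
    rw [← hg, map_mul, map_mul, SemidirectProduct.inl_aut, map_inv, map_inv, mul_inv_rev]
    simp only [mul_assoc]
  rw [h1]
  refine Subgroup.mem_map_of_mem _ ?_
  have h2 : l * ((Subgroup.zpowers a).subtype b) x * l⁻¹ =
      (MulAut.conj l * (Subgroup.zpowers a).subtype b) x := by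
    rw [MulAut.mul_apply, MulAut.conj_apply]
  rw [h2]
  exact hK _ x hx

end Cfsg.Agent.Helper7.S79
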