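import Mathlib
import Cfsg.Agent.Lib.S79.S79Defs

/-! S4079 piece S79-NCQ (helper7 design; see plans/S4079_plan.md), implemented by helper11.
`L / Ω₁(L)` is not cyclic when `L` has no cyclic subgroup of index `p` and `|Ω₁(L)| = p²`. -/

set_option autoImplicit false

namespace Cfsg.Agent.Helper7.S79

open Subgroup

open scoped commutatorElement

universe u

/-- a cyclic subgroup all of whose elements have `p`-th power one has order dividing `p` -/
theorem s79_ncq_card_dvd {L : Type*} [Group L] [Finite L] {p : ℕ} (D : Subgroup L) [IsCyclic D]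
    (hD : ∀ x ∈ D, x ^ p = 1) : Nat.card D ∣ p := by
  obtain ⟨d, hd⟩ := IsCyclic.exists_generator (α := ↥D)
  rw [← orderOf_eq_card_of_forall_mem_zpowers hd]
  apply orderOf_dvd_of_pow_eq_one
  apply Subtype.ext
  rw [Subgroup.coe_pow, Subgroup.coe_one]
  exact hD _ d.2

theorem not_isCyclic_quotient {L : Type*} [Group L] [Finite L] {p : ℕ} [Fact p.Prime]
    (hL : IsPGroup p L) (hnc : ∀ C : Subgroup L, IsCyclic C → C.index ≠ p)
    (E : Subgroup L) [E.Normal] (hmem : ∀ x, x ∈ E ↔ x ^ p = 1) (hcard : Nat.card E = p ^ 2) :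
    ¬ IsCyclic (L ⧸ E) := by
  have hp : p.Prime := Fact.out
  intro hcyc
  obtain ⟨g, hg⟩ := hcyc.exists_generator
  obtain ⟨l, rfl⟩ := QuotientGroup.mk_surjective g
  set C : Subgroup L := Subgroup.zpowers l with hCdef
  have hCE : C ⊔ E = ⊤ := by
    rw [eq_top_iff]
    intro x _
    obtain ⟨k, hk⟩ := Subgroup.mem_zpowers_iff.mp (hg (x : L ⧸ E))
    have h1 : (l ^ k)⁻¹ * x ∈ E := by
      rw [← QuotientGroup.eq]
      rw [← hk]
      simp
    have hx : x = l ^ k * ((l ^ k)⁻¹ * x) := by group
    rw [hx]
    exact Subgroup.mul_mem_sup (zpow_mem (Subgroup.mem_zpowers l) k) h1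
  -- the intersection
  set D : Subgroup L := C ⊓ E with hDdef
  have hrel : D.relIndex C = E.index := by
    rw [hDdef, Subgroup.inf_relIndex_left, ← Subgroup.relIndex_sup_right (H := C) (K := E), hCE,
      Subgroup.relIndex_top_right]
  have hDidx : D.index = E.index * C.index := by
    rw [← hrel]
    exact (Subgroup.relIndex_mul_index (inf_le_left : D ≤ C)).symm
  have hEidx : E.index ≠ 0 := Subgroup.index_ne_zero_of_finite
  have hkey : Nat.card D * C.index = p ^ 2 := by
    have h1 := D.card_mul_index
    have h2 := E.card_mul_index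
    rw [hDidx] at h1
    rw [hcard] at h2
    have h3 : E.index * (Nat.card D * C.index) = E.index * p ^ 2 := by
      calc E.index * (Nat.card D * C.index) = Nat.card D * (E.index * C.index) := by ring
        _ = Nat.card L := h1
        _ = p ^ 2 * E.index := h2.symm
        _ = E.index * p ^ 2 := by ring
    exact Nat.eq_of_mul_eq_mul_left (Nat.pos_of_ne_zero hEidx) h3
  haveI : IsCyclic D := Subgroup.isCyclic_of_le (inf_le_left : D ≤ C)
  have hDdvd : Nat.card D ∣ p := s79_ncq_card_dvd D (fun x hx => (hmem x).mp hx.2)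
  rcases (Nat.dvd_prime hp).mp hDdvd with hD1 | hDp
  · -- `D` trivial: then `C` is trivial and `L = E`
    have hCcard : Nat.card C = 1 := by
      rcases (hL.to_subgroup C).card_eq_or_dvd with h1 | h1
      · exact h1
      · exfalso
        obtain ⟨c, hc⟩ := exists_prime_orderOf_dvd_card' (G := ↥C) p h1
        have hcp : (c : L) ^ p = 1 := by
          have := pow_orderOf_eq_one c
          rw [hc] at this
          have h2 := congrArg Subtype.val this
          simpa using h2
        have hcD : (c : L) ∈ D := ⟨c.2, (hmem _).mpr hcp⟩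
        have hDbot : D = ⊥ := Subgroup.card_eq_one.mp hD1
        rw [hDbot, Subgroup.mem_bot] at hcD
        have hc1 : c = 1 := Subtype.ext hcD
        rw [hc1, orderOf_one] at hc
        exact hp.one_lt.ne hc
    have hLcard : Nat.card L = p ^ 2 := by
      have h1 := C.card_mul_index
      rw [hCcard, one_mul] at h1
      rw [hD1, one_mul] at hkey
      rw [← h1, hkey]
    obtain ⟨x, hx⟩ := exists_prime_orderOf_dvd_card' (G := L) p (by rw [hLcard]; exact dvd_pow_self p (by norm_num))
    apply hnc (Subgroup.zpowers x) inferInstance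
    have h1 := (Subgroup.zpowers x).card_mul_index
    rw [Nat.card_zpowers, hx, hLcard, pow_two] at h1
    exact Nat.eq_of_mul_eq_mul_left hp.pos h1
  · apply hnc C inferInstance
    rw [hDp, pow_two] at hkey
    exact Nat.eq_of_mul_eq_mul_left hp.pos hkey

end Cfsg.Agent.Helper7.S79
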