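import Mathlib
import Cfsg.Agent.Lib.S79.S79Defs

/-! S4079 piece S79-OM1 (helper7 design; see plans/S4079_plan.md): `Ω₁` of a noncyclic metacyclic `p`-group,
`p` odd, is a subgroup of order `p²` (helper23). -/

set_option autoImplicit false

namespace Cfsg.Agent.Helper7.S79

open Subgroup

open scoped commutatorElement

universe u

theorem exists_omega1 {R : Type*} [Group R] [Finite R] {p : ℕ} [Fact p.Prime] (hp : p ≠ 2)
    (hR : IsPGroup p R) (hmc : Cfsg.IsMetacyclic R) (hnc : ¬ IsCyclic R) :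
    ∃ E : Subgroup R, (∀ x, x ∈ E ↔ x ^ p = 1) ∧ Nat.card E = p ^ 2 := by
  have hpp : p.Prime := Fact.out
  -- `⊤` is not cyclic
  have htop : ¬ IsCyclic (⊤ : Subgroup R) := by
    intro h
    apply hnc
    exact isCyclic_of_surjective (Subgroup.topEquiv : (⊤ : Subgroup R) ≃* R)
      Subgroup.topEquiv.surjective
  obtain ⟨A, -, hAn, hAel, hAcard⟩ :=
    Cfsg.Agent.Helper22.exists_normal_elementary_sq hp hR (⊤ : Subgroup R) htop
  haveI := hAn
  have hS := Cfsg.Agent.Helper11.Blk.smallOmega_of_isMetacyclic (G := R) p hpp.pos hmc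
  refine ⟨A, fun x => ⟨fun hx => hAel.2 x hx, fun hx => ?_⟩, hAcard⟩
  exact Cfsg.Agent.Helper11.Blk.mem_of_pow_eq_one hp hR hS A hAel.2 hAcard x hx

end Cfsg.Agent.Helper7.S79
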