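import Mathlib
import Cfsg.Agent.Lib.S79.S79Defs
import Cfsg.Agent.Lib.S79.S79OM1
import Cfsg.Agent.Lib.S79.S79NCQ

/-! S4079 piece S79-OM2 (helper7 design; see plans/S4079_plan.md), implemented by helper11.
`W = {x | x ^ p ∈ E}` is a subgroup of order `p ^ 4`. -/

set_option autoImplicit false

namespace Cfsg.Agent.Helper7.S79

open Subgroup

open scoped commutatorElement

universe u

theorem exists_omega2 {L : Type*} [Group L] [Finite L] {p : ℕ} [Fact p.Prime] (hp : p ≠ 2)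
    (hL : IsPGroup p L) (hmc : Cfsg.IsMetacyclic L)
    (hnc : ∀ C : Subgroup L, IsCyclic C → C.index ≠ p)
    (E : Subgroup L) (hmem : ∀ x, x ∈ E ↔ x ^ p = 1) (hcard : Nat.card E = p ^ 2) :
    ∃ W : Subgroup L, (∀ x, x ∈ W ↔ x ^ p ∈ E) ∧ Nat.card W = p ^ 4 := by
  haveI hEn : E.Normal := by
    constructor
    intro n hn g
    rw [hmem] at hn ⊢
    rw [conj_pow, hn, mul_one, mul_inv_cancel]
  have hncq : ¬ IsCyclic (L ⧸ E) := not_isCyclic_quotient hL hnc E hmem hcard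
  have hmq : Cfsg.IsMetacyclic (L ⧸ E) := Cfsg.Agent.Helper11.Blk.isMetacyclic_quotient hmc E
  have hLq : IsPGroup p (L ⧸ E) := hL.to_quotient E
  obtain ⟨Ebar, hEbar, hEbarcard⟩ := exists_omega1 hp hLq hmq hncq
  refine ⟨Ebar.comap (QuotientGroup.mk' E), ?_, ?_⟩
  · intro x
    rw [Subgroup.mem_comap, hEbar, QuotientGroup.mk'_apply, ← QuotientGroup.mk_pow,
      QuotientGroup.eq_one_iff]
  · rw [Cfsg.Agent.Helper22.card_comap_mk', hEbarcard, hcard]
    ring

end Cfsg.Agent.Helper7.S79
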