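import Mathlib
import Cfsg.Agent.Lib.S79.S79Defs
import Cfsg.Agent.Lib.S79.S79KEY
import Cfsg.Agent.Lib.S79.S79FIXCARD
import Cfsg.Agent.Lib.S79.S79DELTA

/-! S4079 piece S79-P3 (helper7 design; see plans/S4079_plan.md).  Proof by helper7. -/

set_option autoImplicit false

namespace Cfsg.Agent.Helper7.S79

open Subgroup

open scoped commutatorElement

universe u

theorem p_eq_three {L : Type*} [Group L] [Finite L] {p : ℕ} [Fact p.Prime] (hp : p ≠ 2)
    (D : Omega p L) (a : MulAut L) (ha : a ^ p = 1) (hmove : ∃ e ∈ D.E, a e ≠ e) : p = 3 := by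
  have hpp : p.Prime := Fact.out
  by_contra hp3
  have hZ := card_fix_E D a ha hmove
  have hdelta := delta_mem D a ha hZ
  obtain ⟨e, he, hae⟩ := hmove
  obtain ⟨w, hw, hwe⟩ := D.surj e he
  obtain ⟨t, s, z, -, -, -, -, -, hzE, -, htp, hkey⟩ := key_identity hp D a ha hdelta w hw
  have h5 : 3 < p := by
    have h2 := hpp.two_le
    rcases Nat.lt_or_ge 3 p with h | h
    · exact h
    · exfalso
      interval_cases p
      · exact hp rfl
      · exact hp3 rfl
  have hdvd : p ∣ p.choose 3 := hpp.dvd_choose_self (by norm_num) h5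
  obtain ⟨k, hk⟩ := hdvd
  have hz1 : z ^ (p.choose 3) = 1 := by rw [hk, pow_mul, D.pow_eq_one hzE, one_pow]
  rw [hz1, mul_one, htp, hwe] at hkey
  apply hae
  have : a e = e * (e⁻¹ * a e) := by group
  rw [this, hkey, mul_one]

end Cfsg.Agent.Helper7.S79
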