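import Mathlib
import Cfsg.Agent.Lib.S79.S79Defs

/-! S4079 piece S79-POW (helper7 design; see plans/S4079_plan.md).  Proved by helper10:
class-two power formula `(u v)^n = u^n v^n c^(n choose 2)` with `c = ⁅v, u⁆` central. -/

set_option autoImplicit false

namespace Cfsg.Agent.Helper7.S79

open Subgroup

open scoped commutatorElement

universe u

theorem s79_pow_swap {L : Type*} [Group L] (u v c : L) (hc : v * u = c * u * v)
    (hcu : Commute c u) (hcv : Commute c v) (n : ℕ) : v ^ n * u = c ^ n * u * v ^ n := by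
  induction n with
  | zero => simp
  | succ n ih =>
    have h1 : Commute (c ^ n) v := hcv.pow_left n
    have e1 : v ^ (n + 1) = v * v ^ n := pow_succ' v n
    have e2 : c ^ (n + 1) = c ^ n * c := pow_succ c n
    have e3 : v * c ^ n = c ^ n * v := h1.eq.symm
    calc v ^ (n + 1) * u = v * (v ^ n * u) := by rw [e1, mul_assoc]
      _ = v * (c ^ n * u * v ^ n) := by rw [ih]
      _ = (v * c ^ n) * u * v ^ n := by simp only [mul_assoc]
      _ = c ^ n * (v * u) * v ^ n := by rw [e3]; simp only [mul_assoc]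
      _ = c ^ n * (c * u * v) * v ^ n := by rw [hc]
      _ = c ^ (n + 1) * u * v ^ (n + 1) := by
          rw [e1, e2]; simp only [mul_assoc]

theorem s79_pow_formula {L : Type*} [Group L] (u v c : L) (hc : v * u = c * u * v)
    (hcu : Commute c u) (hcv : Commute c v) (n : ℕ) :
    (u * v) ^ n = u ^ n * v ^ n * c ^ (n.choose 2) := by
  induction n with
  | zero => simp
  | succ n ih =>
    have hsw := s79_pow_swap u v c hc hcu hcv n
    have h2 : Commute (c ^ (n.choose 2)) u := hcu.pow_left _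
    have h3 : Commute (c ^ (n.choose 2)) v := hcv.pow_left _
    have h4 : c ^ n * u = u * c ^ n := (hcu.pow_left _).eq
    have h5 : c ^ n * v ^ (n + 1) = v ^ (n + 1) * c ^ n := ((hcv.pow_left _).pow_right _).eq
    have h6 : c ^ (n.choose 2) * (u * v) = (u * v) * c ^ (n.choose 2) := (h2.mul_right h3).eq
    have e1 : v ^ (n + 1) = v ^ n * v := pow_succ v n
    have e2 : u ^ (n + 1) = u ^ n * u := pow_succ u n
    have e3 : (u * v) ^ (n + 1) = (u * v) ^ n * (u * v) := pow_succ _ n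
    have e4 : (n + 1).choose 2 = n + n.choose 2 := by
      rw [Nat.choose_succ_succ', Nat.choose_one_right]
    have e5 : c ^ ((n + 1).choose 2) = c ^ n * c ^ (n.choose 2) := by rw [e4, pow_add]
    calc (u * v) ^ (n + 1) = u ^ n * v ^ n * c ^ (n.choose 2) * (u * v) := by rw [e3, ih]
      _ = u ^ n * v ^ n * (c ^ (n.choose 2) * (u * v)) := by simp only [mul_assoc]
      _ = u ^ n * v ^ n * ((u * v) * c ^ (n.choose 2)) := by rw [h6]
      _ = u ^ n * (v ^ n * u) * v * c ^ (n.choose 2) := by simp only [mul_assoc]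
      _ = u ^ n * (c ^ n * u * v ^ n) * v * c ^ (n.choose 2) := by rw [hsw]
      _ = u ^ n * (u * c ^ n * v ^ n) * v * c ^ (n.choose 2) := by rw [h4]
      _ = (u ^ n * u) * (c ^ n * (v ^ n * v)) * c ^ (n.choose 2) := by simp only [mul_assoc]
      _ = u ^ (n + 1) * (c ^ n * v ^ (n + 1)) * c ^ (n.choose 2) := by rw [← e1, ← e2]
      _ = u ^ (n + 1) * (v ^ (n + 1) * c ^ n) * c ^ (n.choose 2) := by rw [h5]
      _ = u ^ (n + 1) * v ^ (n + 1) * (c ^ n * c ^ (n.choose 2)) := by simp only [mul_assoc]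
      _ = u ^ (n + 1) * v ^ (n + 1) * c ^ ((n + 1).choose 2) := by rw [e5]

theorem pow_mul_of_class_two {L : Type*} [Group L] {p : ℕ} [Fact p.Prime] (hp : p ≠ 2)
    (E W : Subgroup L) (hE : ∀ x, x ∈ E ↔ x ^ p = 1)
    (hcomm : ∀ u ∈ W, ∀ v ∈ W, ⁅u, v⁆ ∈ E)
    (hcen : ∀ u ∈ W, ∀ v ∈ W, ∀ w ∈ W, ⁅u, v⁆ * w = w * ⁅u, v⁆) :
    ∀ u ∈ W, ∀ v ∈ W, (u * v) ^ p = u ^ p * v ^ p := by
  intro u hu v hv
  have hc : v * u = ⁅v, u⁆ * u * v := by
    rw [commutatorElement_def]; group
  have hcu : Commute ⁅v, u⁆ u := hcen v hv u hu u hu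
  have hcv : Commute ⁅v, u⁆ v := hcen v hv u hu v hv
  rw [s79_pow_formula u v ⁅v, u⁆ hc hcu hcv p]
  have hodd : Odd p := (Fact.out : p.Prime).odd_of_ne_two hp
  obtain ⟨k, hk⟩ := hodd
  have hch : p.choose 2 = p * k := by
    rw [Nat.choose_two_right, hk]
    have : (2 * k + 1) * (2 * k + 1 - 1) = 2 * ((2 * k + 1) * k) := by
      rw [Nat.add_sub_cancel]; ring
    rw [this, Nat.mul_div_cancel_left _ (by norm_num : 0 < 2)]
  rw [hch, pow_mul, (hE _).1 (hcomm v hv u hu), one_pow, mul_one]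

end Cfsg.Agent.Helper7.S79
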