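import Mathlib
import Cfsg.Agent.Lib.S79.S79Defs

/-! S4079 piece S79-SUBCYC (helper7 design; see plans/S4079_plan.md). -/

set_option autoImplicit false

namespace Cfsg.Agent.Helper7.S79

open Subgroup

open scoped commutatorElement

universe u

theorem normal_of_le_cyclic_normal {G : Type*} [Group G] [Finite G] (M K : Subgroup G) [M.Normal]
    [IsCyclic M] (hKM : K ≤ M) : K.Normal := by
  obtain ⟨g, hg⟩ := IsCyclic.exists_generator (α := M)
  constructor
  intro k hk x
  -- `x g x⁻¹ ∈ M`, so it is a power of `g`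
  have hgM : x * (g : G) * x⁻¹ ∈ M := (inferInstance : M.Normal).conj_mem _ g.2 x
  obtain ⟨j, hj⟩ := Subgroup.mem_zpowers_iff.1 (hg ⟨x * (g : G) * x⁻¹, hgM⟩)
  have hj' : (g : G) ^ j = x * (g : G) * x⁻¹ := by
    have := congrArg Subtype.val hj
    simpa using this
  -- `k` is a power of `g`
  obtain ⟨i, hi⟩ := Subgroup.mem_zpowers_iff.1 (hg ⟨k, hKM hk⟩)
  have hi' : (g : G) ^ i = k := by
    have := congrArg Subtype.val hi
    simpa using this
  have : x * k * x⁻¹ = k ^ j := by
    rw [← hi', ← zpow_mul, mul_comm i j, zpow_mul, hj']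
    simp [conj_zpow]
  rw [this]
  exact K.zpow_mem hk j

end Cfsg.Agent.Helper7.S79
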