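import Mathlib
import Cfsg.Agent.Lib.S79.S79Defs

/-! S4079 piece S79-SURJ (helper7 design; see plans/S4079_plan.md), implemented by helper11.
`x ↦ x ^ p` maps `W` onto `E` (counting). -/

set_option autoImplicit false

namespace Cfsg.Agent.Helper7.S79

open Subgroup

open scoped commutatorElement

universe u

theorem exists_pow_eq {L : Type*} [Group L] [Finite L] {p : ℕ} [Fact p.Prime]
    (E W : Subgroup L) (hE : ∀ x, x ∈ E ↔ x ^ p = 1) (hW : ∀ x, x ∈ W ↔ x ^ p ∈ E)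
    (hcE : Nat.card E = p ^ 2) (hcW : Nat.card W = p ^ 4)
    (hpow : ∀ u ∈ W, ∀ v ∈ W, (u * v) ^ p = u ^ p * v ^ p) :
    ∀ e ∈ E, ∃ w ∈ W, w ^ p = e := by
  have hp : p.Prime := Fact.out
  have hEW : E ≤ W := by
    intro x hx
    rw [hW, (hE x).mp hx]
    exact E.one_mem
  let ψ : ↥W →* ↥E := MonoidHom.mk' (fun w => ⟨(w : L) ^ p, (hW _).mp w.2⟩) (by
    intro a b
    apply Subtype.ext
    show ((a * b : ↥W) : L) ^ p = (a : L) ^ p * (b : L) ^ p
    rw [Subgroup.coe_mul]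
    exact hpow a a.2 b b.2)
  have hψ : ∀ w : ↥W, ((ψ w : ↥E) : L) = (w : L) ^ p := fun w => rfl
  have hker : ψ.ker = E.subgroupOf W := by
    ext w
    rw [MonoidHom.mem_ker, Subgroup.mem_subgroupOf, hE]
    constructor
    · intro h
      rw [← hψ, h, Subgroup.coe_one]
    · intro h
      apply Subtype.ext
      rw [hψ, h, Subgroup.coe_one]
  have hkcard : Nat.card ψ.ker = p ^ 2 := by
    rw [hker, Nat.card_congr (Subgroup.subgroupOfEquivOfLe hEW).toEquiv, hcE]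
  have hrcard : Nat.card ψ.range = p ^ 2 := by
    have h1 := ψ.ker.card_mul_index
    rw [Subgroup.index_ker, hkcard, hcW] at h1
    have h2 : p ^ 2 * p ^ 2 = p ^ 4 := by ring
    rw [← h2] at h1
    exact Nat.eq_of_mul_eq_mul_left (pow_pos hp.pos 2) h1
  have hrtop : ψ.range = ⊤ := Subgroup.eq_top_of_card_eq _ (by rw [hrcard, hcE])
  intro e he
  have h1 : (⟨e, he⟩ : ↥E) ∈ ψ.range := by rw [hrtop]; exact Subgroup.mem_top _
  obtain ⟨w, hw⟩ := h1
  refine ⟨(w : L), w.2, ?_⟩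
  rw [← hψ, hw]

end Cfsg.Agent.Helper7.S79
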