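import Mathlib
import Cfsg.Agent.Lib.S79.S79Defs

/-! S4079 piece S79-UNIQ (helper7 design; see plans/S4079_plan.md).  Proof by helper7. -/

set_option autoImplicit false

namespace Cfsg.Agent.Helper7.S79

open Subgroup

open scoped commutatorElement

universe u

theorem normal_sq_unique {G : Type u} [Group G] [Finite G] {p : ℕ} [Fact p.Prime] (n : ℕ)
    (hn : 4 ≤ n) (hcard : Nat.card G = p ^ n) (hclass : Group.nilpotencyClass G = n - 1)
    (N₁ N₂ : Subgroup G) [N₁.Normal] [N₂.Normal] (h₁ : Nat.card N₁ = p ^ 2)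
    (h₂ : Nat.card N₂ = p ^ 2) : N₁ = N₂ := by
  have hpp : p.Prime := Fact.out
  have hP : IsPGroup p G := IsPGroup.of_card hcard
  have hZ : Nat.card (center G) = p :=
    (Cfsg.Agent.Helper22.maxClass_facts p n (by omega) G hcard hclass).2 (by omega)
  -- the quotient by the centre
  have hQcard : Nat.card (G ⧸ center G) = p ^ (n - 1) := by
    have h1 := (center G).card_eq_card_quotient_mul_card_subgroup
    rw [hcard, hZ] at h1
    have h2 : p ^ (n - 1) * p = Nat.card (G ⧸ center G) * p := by
      rw [← h1, ← pow_succ]; congr 1; omega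
    exact (Nat.eq_of_mul_eq_mul_right hpp.pos h2).symm
  have hQclass : Group.nilpotencyClass (G ⧸ center G) = (n - 1) - 1 := by
    rw [Group.nilpotencyClass_quotient_center, hclass]
  have hZQ : Nat.card (center (G ⧸ center G)) = p :=
    (Cfsg.Agent.Helper22.maxClass_facts p (n - 1) (by omega) (G ⧸ center G) hQcard hQclass).2
      (by omega)
  -- the second centre has order `p²`
  have hZ2 : Nat.card (Subgroup.upperCentralSeries G 2) = p ^ 2 := by
    have h1 := Subgroup.comap_upperCentralSeries_quotient_center (G := G) 1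
    rw [Subgroup.upperCentralSeries_one] at h1
    rw [show (2 : ℕ) = Nat.succ 1 from rfl, ← h1,
      Cfsg.Agent.Helper22.card_comap_mk' (center G) (center (G ⧸ center G)), hZQ, hZ, pow_two]
  have hle₁ := Cfsg.Agent.Helper11.Blk.le_upperCentralSeries_two hP hZ N₁ h₁
  have hle₂ := Cfsg.Agent.Helper11.Blk.le_upperCentralSeries_two hP hZ N₂ h₂
  have e₁ : N₁ = Subgroup.upperCentralSeries G 2 :=
    Subgroup.eq_of_le_of_card_ge hle₁ (by rw [hZ2, h₁])
  have e₂ : N₂ = Subgroup.upperCentralSeries G 2 :=
    Subgroup.eq_of_le_of_card_ge hle₂ (by rw [hZ2, h₂])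
  rw [e₁, e₂]

end Cfsg.Agent.Helper7.S79
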