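import Mathlib
import Cfsg.Agent.Lib.S79.S79Defs
import Cfsg.Agent.Lib.S79.S79OM1
import Cfsg.Agent.Lib.S79.S79NCQ
import Cfsg.Agent.Lib.S79.S79OM2
import Cfsg.Agent.Lib.S79.S79COMME
import Cfsg.Agent.Lib.S79.S79COMMC
import Cfsg.Agent.Lib.S79.S79POW
import Cfsg.Agent.Lib.S79.S79SURJ
import Cfsg.Agent.Lib.S79.S79CENT
import Cfsg.Agent.Lib.S79.S79P3
import Cfsg.Agent.Lib.S79.S79FIXLE
import Cfsg.Agent.Lib.S79.S79GCARD
import Cfsg.Agent.Lib.S79.S79GCENT
import Cfsg.Agent.Lib.S79.S79GNORMAL
import Cfsg.Agent.Lib.S79.S79GCENTRAL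
import Cfsg.Agent.Lib.S79.S79UNIQ
import Cfsg.Agent.Lib.S79.S79SUBCYC
import Cfsg.Agent.Lib.S79.S79ECENT
import Cfsg.Agent.Lib.S79.S79DERCYC
import Cfsg.Agent.Lib.Helper11.BlkConfig

/-!
# S4079 (helper7 design): assembly of the pieces
-/

set_option autoImplicit false

namespace Cfsg.Agent.Helper7.S79

open Subgroup

open scoped commutatorElement

universe u

section

variable {L : Type u} [Group L] [Finite L] {p : ℕ} [hp : Fact p.Prime]

/-- a nontrivial `L` with no cyclic subgroup of index `p` is not cyclic -/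
theorem not_isCyclic_of_hnc (hL : IsPGroup p L) [Nontrivial L]
    (hnc : ∀ C : Subgroup L, IsCyclic C → C.index ≠ p) : ¬ IsCyclic L := by
  intro hc
  have hpp : p.Prime := hp.out
  obtain ⟨n, hn⟩ := IsPGroup.iff_card.mp hL
  have hn0 : n ≠ 0 := by
    rintro rfl
    rw [pow_zero] at hn
    have := Finite.one_lt_card_iff_nontrivial.mpr (inferInstance : Nontrivial L)
    omega
  obtain ⟨k, rfl⟩ := Nat.exists_eq_succ_of_ne_zero hn0
  have hdvd : p ^ k ∣ Nat.card L := by rw [hn]; exact pow_dvd_pow p (Nat.le_succ k)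
  obtain ⟨C, hC⟩ := Sylow.exists_subgroup_card_pow_prime p hdvd
  have hCc : IsCyclic C := Subgroup.isCyclic C
  apply hnc C hCc
  have h1 := C.card_mul_index
  rw [hC, hn, pow_succ] at h1
  exact Nat.eq_of_mul_eq_mul_left (pow_pos hpp.pos k) h1

/-- **Structure lemma**: `Ω₁(L)` and `Ω₂(L)`. -/
theorem exists_omega (hodd : p ≠ 2) (hL : IsPGroup p L) (hmc : Cfsg.IsMetacyclic L)
    (hnc : ∀ C : Subgroup L, IsCyclic C → C.index ≠ p) [Nontrivial L] : Nonempty (Omega p L) := by
  obtain ⟨E, hE, hcE⟩ := exists_omega1 hodd hL hmc (not_isCyclic_of_hnc hL hnc)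
  obtain ⟨W, hW, hcW⟩ := exists_omega2 hodd hL hmc hnc E hE hcE
  have hcomm := commutator_mem_E E W hE hW hcE hcW
  have hcen := commutator_central hL hmc E W hE hcomm
  have hpow := pow_mul_of_class_two hodd E W hE hcomm hcen
  have hsurj := exists_pow_eq E W hE hW hcE hcW hpow
  have hcent := E_central_in_W E W hE hcomm hcen hsurj
  exact ⟨⟨E, W, hE, hW, hcE, hcW, hpow, hsurj, hcent⟩⟩

omit [Finite L] in
theorem four_le_of_omega (D : Omega p L) (m : ℕ) (hm : Nat.card L = p ^ m) : 4 ≤ m := by
  have hpp : p.Prime := hp.out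
  have h1 : p ^ 4 ∣ p ^ m := by
    rw [← D.cardW, ← hm]
    exact Subgroup.card_subgroup_dvd_card D.W
  exact (Nat.pow_dvd_pow_iff_le_right hpp.one_lt).mp h1

/-- **Forward direction.** -/
theorem forward (hodd : p ≠ 2) (hL : IsPGroup p L) (D : Omega p L) (a : MulAut L)
    (ha : orderOf a = p) (m : ℕ) (hm : Nat.card L = p ^ m) (hmove : ∃ e ∈ D.E, a e ≠ e) :
    p = 3 ∧ Group.nilpotencyClass (GG a) = m := by
  have hpp : p.Prime := hp.out
  have hap : a ^ p = 1 := by rw [← ha]; exact pow_orderOf_eq_one a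
  refine ⟨p_eq_three hodd D a hap hmove, ?_⟩
  have hfix := card_fixSub_le hodd hL D a hap hmove
  have hG := card_GG a ha m hm
  have hcent := card_centralizer_inr_le a
  rw [ha] at hcent
  have hle : Nat.card ↥(centralizer {(SemidirectProduct.inr ⟨a, Subgroup.mem_zpowers a⟩ : GG a)})
      ≤ p ^ 2 := by
    refine le_trans hcent ?_
    rw [pow_two]
    exact Nat.mul_le_mul_right p hfix
  have hm4 := four_le_of_omega D m hm
  have : Finite (GG a) := Nat.finite_of_card_ne_zero (by rw [hG]; exact (pow_pos hpp.pos _).ne')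
  have h := (Cfsg.Agent.Helper22.maxClass_of_card_centralizer_le p (m + 1) (by omega) (GG a) hG
    _ hle).1
  rw [h]
  omega

/-- **Converse direction.** -/
theorem converse (hodd : p ≠ 2) (hL : IsPGroup p L) (hmc : Cfsg.IsMetacyclic L) (D : Omega p L)
    (a : MulAut L) (ha : orderOf a = p) (m : ℕ) (hm : Nat.card L = p ^ m)
    (hclass : Group.nilpotencyClass (GG a) = m) (hfix : ∀ e ∈ D.E, a e = e) : False := by
  have hpp : p.Prime := hp.out
  have hG := card_GG a ha m hm
  have hm4 := four_le_of_omega D m hm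
  have hclass' : Group.nilpotencyClass (GG a) = (m + 1) - 1 := by rw [hclass]; omega
  have : Finite (GG a) := Nat.finite_of_card_ne_zero (by rw [hG]; exact (pow_pos hpp.pos _).ne')
  -- the image of `E`
  set ιE : Subgroup (GG a) := D.E.map (SemidirectProduct.inl : L →* GG a) with hιE
  have hιEn : ιE.Normal := map_inl_normal a D.E (fun α x hx => D.aut_E α hx)
  have hιEcard : Nat.card ιE = p ^ 2 := by
    rw [hιE, Subgroup.card_map_of_injective SemidirectProduct.inl_injective, D.cardE]
  by_cases hd : Nat.card ↥(commutator L) ≤ p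
  · have hEc := E_le_center_of_card_commutator_le hodd hL D hd
    have hle : ιE ≤ center (GG a) :=
      map_inl_le_center a D.E (fun e he => ⟨hEc e he, hfix e he⟩)
    exact Cfsg.Agent.Helper11.Blk.not_maxClass_of_central_sq (m + 1) (by omega) hG hclass' ιE hle
      hιEcard
  · push Not at hd
    -- the image of `L'`
    set M : Subgroup (GG a) := (commutator L).map (SemidirectProduct.inl : L →* GG a) with hM
    have hMn : M.Normal := by
      apply map_inl_normal a (commutator L)
      intro α x hx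
      have hchar : (commutator L).Characteristic := by
        rw [_root_.commutator_def]; infer_instance
      have h1 := hchar.fixed α
      have : x ∈ (commutator L).comap α.toMonoidHom := by rw [h1]; exact hx
      exact this
    have hcyc : IsCyclic ↥(commutator L) := isCyclic_commutator hmc
    have hMc : IsCyclic ↥M :=
      isCyclic_of_surjective ((SemidirectProduct.inl : L →* GG a).subgroupMap (commutator L))
        ((SemidirectProduct.inl : L →* GG a).subgroupMap_surjective (commutator L))
    have hMcard : Nat.card ↥M = Nat.card ↥(commutator L) := by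
      rw [hM, Subgroup.card_map_of_injective SemidirectProduct.inl_injective]
    -- `p² ∣ card M`
    have hdvd : p ^ 2 ∣ Nat.card ↥M := by
      rw [hMcard]
      obtain ⟨k, hk⟩ := IsPGroup.iff_card.mp (hL.to_subgroup (commutator L))
      rw [hk] at hd ⊢
      apply pow_dvd_pow
      by_contra hk2
      have hk1 : k ≤ 1 := by omega
      have : p ^ k ≤ p ^ 1 := Nat.pow_le_pow_right hpp.pos hk1
      rw [pow_one] at this
      omega
    obtain ⟨K', hK'⟩ := Sylow.exists_subgroup_card_pow_prime p hdvd
    set K : Subgroup (GG a) := K'.map M.subtype with hK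
    have hKM : K ≤ M := Subgroup.map_subtype_le K'
    have hKcard : Nat.card ↥K = p ^ 2 := by
      rw [hK, Subgroup.card_map_of_injective M.subtype_injective, hK']
    have hKn : K.Normal := normal_of_le_cyclic_normal M K hKM
    have hKE : K = ιE := normal_sq_unique (m + 1) (by omega) hG hclass' K ιE hKcard hιEcard
    have hKc : IsCyclic ↥K := Subgroup.isCyclic_of_le hKM
    obtain ⟨g, hg⟩ := IsCyclic.exists_generator (α := ↥K)
    have hord : orderOf g = p ^ 2 := by
      rw [orderOf_eq_card_of_forall_mem_zpowers hg, hKcard]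
    have hgE : (g : GG a) ∈ ιE := hKE ▸ g.2
    obtain ⟨e, he, hge⟩ := hgE
    have hgp : g ^ p = 1 := by
      apply Subtype.ext
      rw [Subgroup.coe_pow, ← hge, ← map_pow, D.pow_eq_one he, map_one]
      rfl
    have h2 : orderOf g ∣ p := orderOf_dvd_of_pow_eq_one hgp
    rw [hord] at h2
    have h3 : p ^ 2 ≤ p := Nat.le_of_dvd hpp.pos h2
    have h4 : p < p ^ 2 := by
      rw [pow_two]
      exact lt_mul_of_one_lt_left hpp.pos hpp.one_lt
    omega

/-- **S4079**, in the form of the frozen statement. -/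
theorem main (hodd : p ≠ 2) (hL : IsPGroup p L) (hmc : Cfsg.IsMetacyclic L)
    (hnc : ∀ C : Subgroup L, IsCyclic C → C.index ≠ p)
    (a : MulAut L) (ha : orderOf a = p) (m : ℕ) (hm : Nat.card L = p ^ m) :
    (∃ x : L, orderOf x = p ∧ a x ≠ x) ↔
    (p = 3 ∧ Group.nilpotencyClass (SemidirectProduct L ↥(Subgroup.zpowers a)
      (Subgroup.zpowers a).subtype) = m) := by
  have hpp : p.Prime := hp.out
  have : Nontrivial L := by
    by_contra hnt
    rw [not_nontrivial_iff_subsingleton] at hnt
    have ha1 : a = 1 := by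
      ext x
      exact Subsingleton.elim _ _
    rw [ha1, orderOf_one] at ha
    exact hpp.one_lt.ne ha
  obtain ⟨D⟩ := exists_omega hodd hL hmc hnc
  constructor
  · rintro ⟨x, hx, hax⟩
    have hxE : x ∈ D.E := by
      rw [D.memE, ← hx]
      exact pow_orderOf_eq_one x
    exact forward hodd hL D a ha m hm ⟨x, hxE, hax⟩
  · rintro ⟨-, hclass⟩
    by_contra hno
    push Not at hno
    apply converse hodd hL hmc D a ha m hm hclass
    intro e he
    by_cases he1 : e = 1
    · rw [he1, map_one]
    · exact hno e (orderOf_eq_prime (D.pow_eq_one he) he1)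

end

end Cfsg.Agent.Helper7.S79
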